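import Mathlib
import Groth.Agent.Lib.Helper5.Glue.P3

/-!
# Descending invertible modules along a finite family of finite morphisms which is "an isomorphism"
away from a discrete closed set
-/

set_option autoImplicit false
universe u
open CategoryTheory Limits AlgebraicGeometry TopologicalSpace Opposite

namespace Groth.Agent.H5.Multi

open Groth.Agent.LD Groth.Agent.H5.Glue

variable {Y : Scheme.{u}} {n : ℕ} {X : Fin n → Scheme.{u}} (f : ∀ i, X i ⟶ Y)

/-- simultaneous local data for a finite family. -/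
lemma exists_local_data [∀ i, IsFinite (f i)] (V : Y.Opens)
    (hdisc : DiscreteTopology ((V : Set Y)ᶜ : Set Y))
    (L : ∀ i, (X i).Modules) (hL : ∀ i, PicF.IsInvertible (L i)) (y : Y) :
    ∃ W : Y.Opens, y ∈ W ∧ (∀ z ∈ W, z ∉ V → z = y) ∧
      ∀ i, ∃ e : Γ(L i, f i ⁻¹ᵁ W), QC.IsBasisOver (L i) (f i ⁻¹ᵁ W) e := by
  choose W' hyW' hW1 _ e he using
    fun i => Groth.Agent.H5.Glue.exists_local_data (f i) V hdisc (L i) (hL i) y
  by_cases hn : n = 0
  · subst hn
    obtain ⟨W, hyW, hW, -, -⟩ := Groth.Agent.H5.Glue.exists_local_data (𝟙 Y) V hdisc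
      (QC.unitMod Y) (QC.isInvertible_unit Y) y
    exact ⟨W, hyW, hW, fun i => i.elim0⟩
  · let W : Y.Opens := ⟨⋂ i, (W' i : Set Y), isOpen_iInter_of_finite (fun i => (W' i).2)⟩
    have hWle : ∀ i, W ≤ W' i := fun i z hz => Set.mem_iInter.mp hz i
    refine ⟨W, Set.mem_iInter.mpr hyW', ?_, fun i => ?_⟩
    · intro z hz hzV
      obtain ⟨i₀⟩ : Nonempty (Fin n) := ⟨⟨0, Nat.pos_of_ne_zero hn⟩⟩
      exact hW1 i₀ z (hWle i₀ hz) hzV
    · have hle : f i ⁻¹ᵁ W ≤ f i ⁻¹ᵁ W' i := fun _ h => hWle i h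
      exact ⟨_, (he i).mono hle⟩

/-- **Main construction.** -/
theorem exists_invertible_pullback_iso [∀ i, IsFinite (f i)] (V : Y.Opens)
    (hdisc : DiscreteTopology ((V : Set Y)ᶜ : Set Y))
    (hinj : ∀ (O : Y.Opens) (B : ∀ i, (X i).Opens) (hB : ∀ i, B i = f i ⁻¹ᵁ O) (a b : Γ(Y, O)),
      (∀ i, ((f i).appLE O (B i) (hB i).le).hom a = ((f i).appLE O (B i) (hB i).le).hom b) →
        a = b)
    (hsurj : ∀ (O : Y.Opens), O ≤ V → ∀ (B : ∀ i, (X i).Opens) (hB : ∀ i, B i = f i ⁻¹ᵁ O)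
      (g : ∀ i, Γ(X i, B i)), ∃ a : Γ(Y, O), ∀ i, ((f i).appLE O (B i) (hB i).le).hom a = g i)
    (L : ∀ i, (X i).Modules) (hL : ∀ i, PicF.IsInvertible (L i)) :
    ∃ N : Y.Modules, PicF.IsInvertible N ∧
      ∀ i, Nonempty ((Scheme.Modules.pullback (f i)).obj N ≅ L i) := by
  classical
  choose W hyW hW1 e he using exists_local_data f V hdisc L hL
  have hWV : ∀ y y', y ≠ y' → W y ⊓ W y' ≤ V := by
    intro y y' hne z hz
    by_contra hzV
    exact hne ((hW1 y z hz.1 hzV).symm.trans (hW1 y' z hz.2 hzV))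
  let U' : ∀ i, Y → (X i).Opens := fun i y => f i ⁻¹ᵁ W y
  have hU' : ∀ i, iSup (U' i) = ⊤ := by
    intro i
    rw [eq_top_iff]
    intro x _
    exact Opens.mem_iSup.mpr ⟨f i x, hyW (f i x)⟩
  have hcW : iSup W = ⊤ := by
    rw [eq_top_iff]
    intro y _
    exact Opens.mem_iSup.mpr ⟨y, hyW y⟩
  -- transition functions
  let θ : ∀ i, ∀ y y', Γ(X i, U' i y ⊓ U' i y') := fun i => transition (fun y => he y i)
  have hθc : ∀ i, IsCocycle (U' i) (θ i) := fun i => isCocycle_transition (fun y => he y i)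
  have hθ1 : ∀ i y, θ i y y = 1 := fun i y =>
    (hθc i).self_eq_one y (isUnit_transition (fun y => he y i) y y)
  have hpre : ∀ i y y', U' i y ⊓ U' i y' = f i ⁻¹ᵁ (W y ⊓ W y') := fun i y y' => rfl
  -- the cocycle on `Y`
  let η : ∀ y y', Γ(Y, W y ⊓ W y') := fun y y' =>
    if h : y = y' then 1 else
      Classical.choose (hsurj (W y ⊓ W y') (hWV y y' h) (fun i => U' i y ⊓ U' i y')
        (fun i => hpre i y y') (fun i => θ i y y'))
  have hηθ : ∀ i y y', ((f i).appLE (W y ⊓ W y') (U' i y ⊓ U' i y') (hpre i y y').le).hom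
      (η y y') = θ i y y' := by
    intro i y y'
    by_cases h : y = y'
    · subst h
      simp only [η, dif_pos]
      rw [map_one, hθ1]
    · simp only [η, dif_neg h]
      exact Classical.choose_spec (hsurj (W y ⊓ W y') (hWV y y' h) (fun i => U' i y ⊓ U' i y')
        (fun i => hpre i y y') (fun i => θ i y y')) i
  have hηc : IsCocycle W η := by
    intro y y' y''
    have hpreT : ∀ i, U' i y ⊓ U' i y' ⊓ U' i y'' = f i ⁻¹ᵁ (W y ⊓ W y' ⊓ W y'') :=
      fun i => rfl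
    apply hinj _ (fun i => U' i y ⊓ U' i y' ⊓ U' i y'') hpreT
    intro i
    rw [map_mul, appLE_res_left, appLE_res_left, appLE_res_left]
    have h1 := res_appLE (f i) (inf_le_inf_right (U' i y'') inf_le_left :
      U' i y ⊓ U' i y' ⊓ U' i y'' ≤ U' i y ⊓ U' i y'') (hpre i y y'').le (η y y'')
    have h2 := res_appLE (f i) (inf_le_left : U' i y ⊓ U' i y' ⊓ U' i y'' ≤ U' i y ⊓ U' i y')
      (hpre i y y').le (η y y')
    have h3 := res_appLE (f i) (inf_le_inf_right (U' i y'') inf_le_right :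
      U' i y ⊓ U' i y' ⊓ U' i y'' ≤ U' i y' ⊓ U' i y'') (hpre i y' y'').le (η y' y'')
    rw [hηθ] at h1 h2 h3
    exact h1.symm.trans ((hθc i y y' y'').trans (congrArg₂ (· * ·) h2 h3))
  have hηu : ∀ y, IsUnit (η y y) := fun y => by
    simp only [η, dif_pos]
    exact isUnit_one
  let N : Y.Modules := glueMod W η
  have hN : PicF.IsInvertible N := isInvertible_glueMod hηc hηu hcW
  haveI : N.IsQuasicoherent := QC.qc_of_isInvertible N hN
  refine ⟨N, hN, fun i => ?_⟩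
  let e'' : ∀ y, Γ((Scheme.Modules.pullback (f i)).obj N, U' i y) := fun y =>
    QC.pbSec (f i) N (le_refl (f i ⁻¹ᵁ W y)) (glueGen hηc y)
  have he'' : ∀ y, QC.IsBasisOver ((Scheme.Modules.pullback (f i)).obj N) (U' i y) (e'' y) :=
    fun y => (isBasisOver_glueGen hηc hηu y).pullback (f i) (le_refl (f i ⁻¹ᵁ W y))
  refine nonempty_iso_of_same_transition (hU' i) he'' (fun y => he y i) (θ i) ?_
    (transition_spec (fun y => he y i))
  intro y y'
  have h1 := QC.pbSec_res (f i) N (le_refl (f i ⁻¹ᵁ W y)) (hpre i y y').le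
    (inf_le_left : U' i y ⊓ U' i y' ≤ U' i y) (inf_le_left : W y ⊓ W y' ≤ W y) (glueGen hηc y)
  have h2 := QC.pbSec_res (f i) N (le_refl (f i ⁻¹ᵁ W y')) (hpre i y y').le
    (inf_le_right : U' i y ⊓ U' i y' ≤ U' i y') (inf_le_right : W y ⊓ W y' ≤ W y') (glueGen hηc y')
  change mres _ _ (e'' y) = θ i y y' • mres _ _ (e'' y')
  change _ = mres _ _ (e'' y) at h1
  change _ = mres _ _ (e'' y') at h2
  rw [← h1, ← h2, glueGen_transition hηc y y', QC.pbSec_smul]
  congr 1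
  exact hηθ i y y'

end Groth.Agent.H5.Multi
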