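import Mathlib
import Groth.Agent.Lib.Helper5.Multi.A

/-!
# Gluing invertible modules given on closed subschemes covering a reduced scheme, with discrete
pairwise intersections
-/

set_option autoImplicit false
universe u
open CategoryTheory Limits AlgebraicGeometry TopologicalSpace Opposite

namespace Groth.Agent.H5.Multi

open Groth.Agent.LD Groth.Agent.H5.Glue

variable {X : Scheme.{u}} {n : ℕ} (Z : Fin n → X.IdealSheafData)

/-- the set of points lying on two different subschemes. -/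
def overlap : Set X :=
  ⋃ p : {p : Fin n × Fin n // p.1 ≠ p.2}, ((Z p.1.1).support : Set X) ∩ ((Z p.1.2).support : Set X)

lemma isClosed_overlap : IsClosed (overlap Z) :=
  isClosed_iUnion_of_finite fun p => (Z p.1.1).support.isClosed.inter (Z p.1.2).support.isClosed

lemma mem_overlap_iff (x : X) : x ∈ overlap Z ↔
    ∃ i j, i ≠ j ∧ x ∈ (Z i).support ∧ x ∈ (Z j).support := by
  unfold overlap
  simp only [Set.mem_iUnion, Set.mem_inter_iff, Subtype.exists, Prod.exists]
  constructor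
  · rintro ⟨i, j, hij, hi, hj⟩; exact ⟨i, j, hij, hi, hj⟩
  · rintro ⟨i, j, hij, hi, hj⟩; exact ⟨i, j, hij, hi, hj⟩

lemma discreteTopology_overlap
    (hdisc : ∀ i j, i ≠ j →
      DiscreteTopology ↥(((Z i).support : Set X) ∩ ((Z j).support : Set X))) :
    DiscreteTopology ↥(overlap Z) := by
  rw [← isDiscrete_iff_discreteTopology]
  apply IsDiscrete.iUnion
  · intro p
    rw [isDiscrete_iff_discreteTopology]
    exact hdisc p.1.1 p.1.2 p.2
  · intro p
    exact (Z p.1.1).support.isClosed.inter (Z p.1.2).support.isClosed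

/-- the open complement of the overlap. -/
def Vopen : X.Opens := ⟨(overlap Z)ᶜ, (isClosed_overlap Z).isOpen_compl⟩

/-- the open set of points lying only on `Z i`. -/
def Vi (i : Fin n) : X.Opens :=
  ⟨(⋃ j : {j : Fin n // j ≠ i}, ((Z j.1).support : Set X))ᶜ,
    (isClosed_iUnion_of_finite fun j : {j : Fin n // j ≠ i} =>
      (Z j.1).support.isClosed).isOpen_compl⟩

lemma mem_Vi_iff (i : Fin n) (x : X) : x ∈ Vi Z i ↔ ∀ j, j ≠ i → x ∉ (Z j).support := by
  change x ∈ (⋃ j : {j : Fin n // j ≠ i}, ((Z j.1).support : Set X))ᶜ ↔ _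
  simp only [Set.mem_compl_iff, Set.mem_iUnion, Subtype.exists, not_exists]
  constructor
  · intro h j hj; exact h j hj
  · intro h j hj; exact h j hj

variable (hcov : ⋃ i, ((Z i).support : Set X) = Set.univ)
include hcov

lemma Vi_le_support (i : Fin n) : (Vi Z i : Set X) ⊆ (Z i).support := by
  intro x hx
  have hx' := (mem_Vi_iff Z i x).mp hx
  have : x ∈ ⋃ i, ((Z i).support : Set X) := by rw [hcov]; trivial
  obtain ⟨j, hj⟩ := Set.mem_iUnion.mp this
  by_cases hji : j = i
  · subst hji; exact hj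
  · exact absurd hj (hx' j hji)

lemma mem_Vi_of_mem_Vopen (i : Fin n) (x : X) (hx : x ∈ Vopen Z) (hxi : x ∈ (Z i).support) :
    x ∈ Vi Z i := by
  rw [mem_Vi_iff]
  intro j hji hxj
  exact hx ((mem_overlap_iff Z x).mpr ⟨j, i, hji, hxj, hxi⟩)

/-- over `Vi Z i` the closed immersion of `Z i` is an isomorphism (`X` reduced). -/
lemma isIso_restrict [IsReduced X] (i : Fin n) : IsIso ((Z i).subschemeι ∣_ Vi Z i) := by
  haveI : IsClosedImmersion ((Z i).subschemeι ∣_ Vi Z i) :=
    MorphismProperty.of_isPullback (isPullback_morphismRestrict (Z i).subschemeι (Vi Z i)).flip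
      inferInstance
  haveI : Surjective ((Z i).subschemeι ∣_ Vi Z i) := by
    refine ⟨fun y => ?_⟩
    have hy : y.1 ∈ ((Z i).support : Set X) := Vi_le_support Z hcov i y.2
    rw [← Scheme.IdealSheafData.range_subschemeι] at hy
    obtain ⟨z, hz⟩ := hy
    have hz' : z ∈ (Z i).subschemeι ⁻¹ᵁ Vi Z i := by
      show (Z i).subschemeι z ∈ Vi Z i
      rw [hz]; exact y.2
    refine ⟨⟨z, hz'⟩, ?_⟩
    apply Subtype.ext
    rw [morphismRestrict_base_coe]
    exact hz
  exact isIso_of_isClosedImmersion_of_surjective _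

omit hcov in
/-- sections over an empty open agree. -/
lemma eq_of_eq_bot {U : X.Opens} (hU : U = ⊥) (a b : Γ(X, U)) : a = b := by
  subst hU
  exact Subsingleton.elim a b

/-- **injectivity** of `Γ(X, O) → ∏ Γ(Z i, ι_i⁻¹ O)` for reduced `X`. -/
lemma hinj [IsReduced X] (O : X.Opens) (B : ∀ i, (Z i).subscheme.Opens)
    (hB : ∀ i, B i ≤ (Z i).subschemeι ⁻¹ᵁ O) (hBcov : ∀ i, (Z i).subschemeι ⁻¹ᵁ O ≤ B i)
    (a b : Γ(X, O))
    (h : ∀ i, ((Z i).subschemeι.appLE O (B i) (hB i)).hom a =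
      ((Z i).subschemeι.appLE O (B i) (hB i)).hom b) : a = b := by
  rw [← sub_eq_zero, ← basicOpen_eq_bot_iff]
  rw [eq_bot_iff]
  intro x hx
  have hxO : x ∈ O := X.basicOpen_le _ hx
  have hxc : x ∈ ⋃ i, ((Z i).support : Set X) := by rw [hcov]; trivial
  obtain ⟨i, hi⟩ := Set.mem_iUnion.mp hxc
  rw [← Scheme.IdealSheafData.range_subschemeι] at hi
  obtain ⟨z, rfl⟩ := hi
  have hz : z ∈ (Z i).subschemeι ⁻¹ᵁ X.basicOpen (a - b) := hx
  rw [Scheme.preimage_basicOpen] at hz
  have h0 : ((Z i).subschemeι.app O).hom (a - b) = 0 := by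
    have hi := h i
    rw [← sub_eq_zero, ← map_sub] at hi
    have h2 := res_appLE (Z i).subschemeι (hBcov i) (hB i) (a - b)
    rw [hi, map_zero] at h2
    rw [Scheme.Hom.app_eq_appLE]
    exact h2.symm
  rw [h0, Scheme.basicOpen_zero] at hz
  exact hz

/-- **surjectivity** of `Γ(X, O) → ∏ Γ(Z i, ι_i⁻¹ O)` for `O` inside the complement of the
overlap. -/
lemma hsurj [IsReduced X] (O : X.Opens) (hO : O ≤ Vopen Z) (B : ∀ i, (Z i).subscheme.Opens)
    (hB : ∀ i, B i = (Z i).subschemeι ⁻¹ᵁ O) (g : ∀ i, Γ((Z i).subscheme, B i)) :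
    ∃ a : Γ(X, O), ∀ i, ((Z i).subschemeι.appLE O (B i) (hB i).le).hom a = g i := by
  classical
  let Oi : Fin n → X.Opens := fun i => O ⊓ Vi Z i
  have hOiV : ∀ i, Oi i ≤ Vi Z i := fun i => inf_le_right
  have hpre : ∀ i, B i ≤ (Z i).subschemeι ⁻¹ᵁ Oi i := by
    intro i z hz
    rw [hB i] at hz
    refine ⟨hz, mem_Vi_of_mem_Vopen Z hcov i _ (hO hz) ?_⟩
    rw [← SetLike.mem_coe, ← Scheme.IdealSheafData.range_subschemeι]
    exact ⟨z, rfl⟩
  have hpre' : ∀ i, (Z i).subschemeι ⁻¹ᵁ Oi i ≤ B i := fun i z hz => by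
    rw [hB i]; exact hz.1
  haveI := fun i => isIso_restrict Z hcov i
  have hpiece : ∀ i, ∃ h : Γ(X, Oi i),
      ((Z i).subschemeι.appLE (Oi i) ((Z i).subschemeι ⁻¹ᵁ Oi i) le_rfl).hom h =
        res (hpre' i) (g i) := fun i =>
    (appLE_bijective_of_isIso_restrict (Z i).subschemeι (Vi Z i) (Oi i) (hOiV i) _ rfl).2 _
  choose h hh using hpiece
  have hcovO : O ≤ iSup Oi := by
    intro x hx
    have hxc : x ∈ ⋃ i, ((Z i).support : Set X) := by rw [hcov]; trivial
    obtain ⟨i, hi⟩ := Set.mem_iUnion.mp hxc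
    exact Opens.mem_iSup.mpr ⟨i, hx, mem_Vi_of_mem_Vopen Z hcov i x (hO hx) hi⟩
  have hcompat : ∀ i j, res (inf_le_left : Oi i ⊓ Oi j ≤ Oi i) (h i) =
      res (inf_le_right : Oi i ⊓ Oi j ≤ Oi j) (h j) := by
    intro i j
    by_cases hij : i = j
    · subst hij; rfl
    · apply eq_of_eq_bot
      rw [eq_bot_iff]
      intro x hx
      exact ((mem_Vi_iff Z j x).mp hx.2.2 i hij) (Vi_le_support Z hcov i hx.1.2)
  obtain ⟨a, ha, -⟩ := existsUnique_glue_fn Oi O (fun i => inf_le_left) hcovO h hcompat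
  refine ⟨a, fun i => ?_⟩
  have hinj' : Function.Injective (res (hpre' i) :
      Γ((Z i).subscheme, B i) →+* Γ((Z i).subscheme, (Z i).subschemeι ⁻¹ᵁ Oi i)) := by
    intro u v huv
    have := congrArg (res (hpre i)) huv
    rwa [res_res, res_res, res_self, res_self] at this
  apply hinj'
  rw [res_appLE, ← hh i, ← ha i, appLE_res_left]

/-- **Gluing invertible modules** on closed subschemes `Z i` covering a reduced scheme `X` with
discrete pairwise intersections. -/
theorem exists_invertible_of_closed_cover [IsReduced X]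
    (hdisc : ∀ i j, i ≠ j →
      DiscreteTopology ↥(((Z i).support : Set X) ∩ ((Z j).support : Set X)))
    (L : ∀ i, (Z i).subscheme.Modules) (hL : ∀ i, PicF.IsInvertible (L i)) :
    ∃ M : X.Modules, PicF.IsInvertible M ∧
      ∀ i, Nonempty ((Scheme.Modules.pullback (Z i).subschemeι).obj M ≅ L i) := by
  have hd : DiscreteTopology (((Vopen Z : X.Opens) : Set X)ᶜ : Set X) := by
    have h := discreteTopology_overlap Z hdisc
    have heq : ((Vopen Z : X.Opens) : Set X)ᶜ = overlap Z := compl_compl _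
    rw [heq]
    exact h
  refine exists_invertible_pullback_iso (fun i => (Z i).subschemeι) (Vopen Z) hd ?_ ?_ L hL
  · intro O B hB a b h
    exact hinj Z hcov O B (fun i => (hB i).le) (fun i => (hB i).ge) a b h
  · intro O hO B hB g
    exact hsurj Z hcov O hO B hB g

end Groth.Agent.H5.Multi
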